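import Groth.Agent.Lib.DiagGrp.FibreMono
import Groth.Agent.Lib.DiagGrp.Points
import Groth.Agent.Lib.Weight.Multiplicity
import Mathlib.AlgebraicGeometry.AlgClosed.Basic
import Mathlib.FieldTheory.IsAlgClosed.AlgebraicClosure

/-!
Unramified homomorphisms with trivial kernel on geometric points are monomorphisms.
-/

universe u

open CategoryTheory MonoidalCategory CartesianMonoidalCategory MonObj GrpObj AlgebraicGeometry
open CategoryTheory.Limits

set_option backward.isDefEq.respectTransparency false

namespace GrothLib.MonoSemi14

variable {S : Scheme.{u}} {H G : Over S} [GrpObj H] [GrpObj G]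

/-- The geometric points of the kernel of an unramified quasi-compact homomorphism are finite. -/
theorem finite_kernel_points (u : H ⟶ G) [FormallyUnramified u.left] [LocallyOfFiniteType u.left]
    [QuasiCompact u.left] (L : Type u) [Field L] [IsAlgClosed L] (σ : Spec (CommRingCat.of L) ⟶ S) :
    {x : Over.mk σ ⟶ H | x ≫ u = 1}.Finite := by
  let e : Spec (CommRingCat.of L) ⟶ G.left := (1 : Over.mk σ ⟶ G).left
  let q := pullback.snd u.left e
  haveI : LocallyQuasiFinite q := by
    haveI := Weight.locallyQuasiFinite_of_formallyUnramified u.left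
    infer_instance
  haveI : QuasiCompact q := inferInstance
  haveI : LocallyOfFiniteType q := inferInstance
  haveI : Finite ↥(pullback u.left e) := by
    rw [← Set.finite_univ_iff]
    have h := q.finite_preimage_singleton (IsLocalRing.closedPoint L)
    refine h.subset fun z _ => ?_
    exact Subsingleton.elim (α := PrimeSpectrum L) _ _
  haveI : Finite {p : Spec (CommRingCat.of L) ⟶ pullback u.left e // p ≫ q = 𝟙 _} :=
    Finite.of_equiv _ (pointEquivClosedPoint q).symm
  have : Finite {x : Over.mk σ ⟶ H // x ≫ u = 1} :=
    Finite.of_injective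
      (β := {p : Spec (CommRingCat.of L) ⟶ pullback u.left e // p ≫ q = 𝟙 _})
      (fun x => ⟨pullback.lift x.1.left (𝟙 _) (by
        rw [Category.id_comp, ← Over.comp_left, x.2]), pullback.lift_snd _ _ _⟩)
      (fun x y hxy => by
        have h1 := congrArg (fun p => p ≫ pullback.fst u.left e) (Subtype.ext_iff.mp hxy)
        simp only [pullback.lift_fst] at h1
        exact Subtype.ext (Over.OverMorphism.ext h1))
  exact Set.finite_coe_iff.mp this

/-- An unramified homomorphism with trivial kernel on geometric points is a monomorphism. -/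
theorem mono_of_geom_points [LocallyOfFiniteType H.hom] (u : H ⟶ G) [IsMonHom u] [FormallyUnramified u.left]
    (hpts : ∀ (L : Type u) [Field L] [IsAlgClosed L] (σ : Spec (CommRingCat.of L) ⟶ S) (x : Over.mk σ ⟶ H),
      x ≫ u = 1 → x = 1) : Mono u := by
  set K := pullback u η[G]
  have sq := ((IsPullback.of_hasPullback u η[G]).map (Over.forget S)).flip
  haveI : IsImmersion η[G].left := by
    have : IsImmersion (η[G].left ≫ G.hom) := by
      rw [Over.w η[G]]
      exact inferInstanceAs (IsImmersion (𝟙 S))
    exact IsImmersion.of_comp _ G.hom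
  haveI : IsImmersion (pullback.fst u η[G]).left :=
    MorphismProperty.of_isPullback (P := @IsImmersion) sq ‹IsImmersion η[G].left›
  haveI : LocallyOfFiniteType K.hom := by
    rw [← Over.w (pullback.fst u η[G])]
    infer_instance
  haveI : FormallyUnramified (pullback.snd u η[G]).left :=
    MorphismProperty.of_isPullback (P := @FormallyUnramified) sq.flip ‹FormallyUnramified u.left›
  haveI : FormallyUnramified K.hom := by
    rw [← Over.w (pullback.snd u η[G])]
    exact MorphismProperty.comp_mem @FormallyUnramified _ _ ‹FormallyUnramified (pullback.snd u η[G]).left›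
      (inferInstanceAs (FormallyUnramified (𝟙 S)))
  haveI : Surjective (pullback.diagonal K.hom) := ⟨fun z => by
    let L := AlgebraicClosure ((pullback K.hom K.hom).residueField z)
    let p : Spec (CommRingCat.of L) ⟶ pullback K.hom K.hom :=
      Spec.map (CommRingCat.ofHom (algebraMap ((pullback K.hom K.hom).residueField z) L)) ≫
        (pullback K.hom K.hom).fromSpecResidueField z
    let σ : Spec (CommRingCat.of L) ⟶ S := p ≫ pullback.fst K.hom K.hom ≫ K.hom
    let x : Over.mk σ ⟶ K := Over.homMk (p ≫ pullback.fst K.hom K.hom) (Category.assoc _ _ _)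
    let y : Over.mk σ ⟶ K := Over.homMk (p ≫ pullback.snd K.hom K.hom) (by
      change _ = p ≫ pullback.fst K.hom K.hom ≫ K.hom
      rw [Category.assoc, pullback.condition])
    have hone : ∀ w : Over.mk σ ⟶ K, w ≫ pullback.fst u η[G] = 1 := fun w => hpts L σ _ (by
      rw [Category.assoc, pullback.condition, ← Category.assoc, Hom.one_def]
      congr 1
      exact toUnit_unique _ _)
    have hxy : x = y := pullback.hom_ext ((hone x).trans (hone y).symm) (toUnit_unique _ _)
    have hd : (p ≫ pullback.fst K.hom K.hom) ≫ pullback.diagonal K.hom = p := by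
      apply pullback.hom_ext
      · rw [Category.assoc, pullback.diagonal_fst, Category.comp_id]
      · rw [Category.assoc, pullback.diagonal_snd, Category.comp_id]
        exact congrArg (fun t => t.left) hxy
    refine ⟨(p ≫ pullback.fst K.hom K.hom) (IsLocalRing.closedPoint L), ?_⟩
    rw [← Scheme.Hom.comp_apply, hd, Scheme.Hom.comp_apply]
    exact Scheme.fromSpecResidueField_apply z _⟩
  haveI : IsIso (pullback.diagonal K.hom) :=
    (isIso_iff_isOpenImmersion_and_surjective _).mpr ⟨inferInstance, inferInstance⟩
  haveI : Mono K.hom := pullback.isIso_diagonal_iff _ |>.mp inferInstance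
  constructor
  intro T a b hab
  have h1 : (a * b⁻¹) ≫ u = 1 := by
    rw [MonObj.mul_comp, GrpObj.inv_comp, hab, mul_inv_cancel]
  let l : T ⟶ K := pullback.lift (a * b⁻¹) (toUnit T) (by rw [h1, Hom.one_def])
  let e : T ⟶ K := pullback.lift 1 (toUnit T) (by rw [MonObj.one_comp, Hom.one_def])
  have hle : l = e := by
    apply Over.OverMorphism.ext
    rw [← cancel_mono K.hom, Over.w, Over.w]
  have h2 := congrArg (· ≫ pullback.fst u η[G]) hle
  simp only [l, e, pullback.lift_fst] at h2
  exact mul_inv_eq_one.mp h2

end GrothLib.MonoSemi14
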